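import Cfsg.Agent.N2.Cl.RSp.Data
import Cfsg.Agent.N2.Cl.RX.Sieve
import Cfsg.Agent.N2.Cl.RX.Rp0
import Cfsg.Agent.N2.Cl.RX.Semi
import Cfsg.Agent.N2.Cl.RX.Green
import Cfsg.Agent.N2.Tri.HSMcL
import Cfsg.Agent.N2.Tri.Suz
import Cfsg.Agent.N2.Tri.Fi22
import Cfsg.Agent.N2.Tri.MJ
import Cfsg.Agent.SM.Tx.SporA
import Cfsg.Agent.H905.JDCard
import Cfsg.Agent.H4.LDM.Stage24
import Cfsg.Agent.H68.TitsMul
import Cfsg.Agent.S2049

/-!
# N2 (S3519), class S with a sporadic socle or the Tits group: the row (helper87)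
-/

set_option autoImplicit false

namespace Cfsg.Agent.N2C.RSp

open Cfsg Cfsg.Agent.OrdDiv Cfsg.Agent.N2C.RX Cfsg.Agent.N2.Tg

/-- the data for the sieve; the triple `(a, b, r)` -/
def els (g : Grp) (r a b : ℕ) : List El := ((tL g).reverse.filter fun x => Nat.ble 7 x.1).map fun x =>
  ⟨x.1, x.2.2.2, x.2.1 * x.2.2.1, if x.1 = r then a else 0, b, true, Nat.beq x.2.1 x.1⟩

/-- the check without degrees -/
def ck (g : Grp) (o ta tb r a b : ℕ) : Bool := chk o (2 * o) 5 (fun _ => 5) (fun _ _ _ => false) ta tb (els g r a b)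

/-- the triples of the Mathieu groups and the Hall–Janko group -/
structure Tr : Prop where
  m11 : ∀ (N : Type) [Group N], Spor.IsoM11 N → Tri N 2 4 11
  m12 : ∀ (N : Type) [Group N], Spor.IsoM12 N → Tri N 2 3 11
  m22 : ∀ (N : Type) [Group N], Spor.IsoM22 N → Tri N 2 4 11
  j2 : ∀ (N : Type) [Group N], Spor.IsoJ2 N → Tri N 2 3 7

variable {t : Kd} {n q p T : ℕ} {N : Type} [Group N] [Finite N] {G : Prop} {c d : N → ℕ} {g : Grp} {o ta tb r a b : ℕ}

theorem els_ok (h : OrdDiv.Real g N) (hA : Nat.card (MulAut N) ∣ 2 * Nat.card N) (hT : a ≠ 0 → Tri N a b r) :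
    ∀ e ∈ els g r a b, e.Ok N := by
  intro e he
  obtain ⟨x, hx, rfl⟩ := List.mem_map.1 he
  obtain ⟨h1, h2⟩ := List.mem_filter.1 hx
  have L := locs h x (List.mem_reverse.1 h1)
  have h3 : 7 ≤ x.1 := Nat.le_of_ble_eq_true h2
  refine El.ok_syl L.prime L.sq (fun k => L.sq (Nat.Coprime.dvd_of_dvd_mul_left ?_ (k.trans hA))) L.cj (fun k => ?_)
    (fun _ => L.nz) fun k => ?_
  · exact Nat.Coprime.pow_left _ ((Nat.coprime_primes L.prime Nat.prime_two).2 (by omega))
  · split_ifs at k ⊢ with k1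
    · exact k1 ▸ hT k
    · exact absurd rfl k
  · rw [Nat.eq_of_beq_eq_true k] at L
    exact L.sc

theorem five_le (h : dimOk t n q) : 5 ≤ n := by
  cases t <;> simp only [dimOk] at h <;> omega

/-- trivial multiplier -/
theorem dg_le [IsSimpleGroup N] (hna : ¬ IsMulCommutative N) (hC : Cr t n q p N) (h : OrdDiv.Real g N) {Y : Type} [Group Y]
    (e : N ≃* Y) (hY : HasCyclicSchurMultiplier Y 1) : TH.Ex.Dg.dgS g p ≤ n := by
  obtain ⟨K, _, _, P, _, -, h1, ⟨f⟩, -⟩ := hC
  obtain ⟨k⟩ := H4.LDM.Stage.exists_equiv h1 (f.trans e) hY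
  exact TH.Ex.Dg.dgS_le (F := K) (fun k => hna ⟨⟨k⟩⟩) h
    ⟨P.subtype.comp (e.trans k.symm).toMonoidHom, P.subtype_injective.comp (e.trans k.symm).injective⟩

theorem dg_sub [IsSimpleGroup N] (hna : ¬ IsMulCommutative N) (hC : Cr t n q p N) (h : OrdDiv.Real g N) {Y : Type}
    [Group Y] (H : Subgroup Y) (e : Nonempty (N ≃* H)) (hY : HasCyclicSchurMultiplier H 1) : TH.Ex.Dg.dgS g p ≤ n :=
  dg_le hna hC h e.some hY

theorem tits_le [IsSimpleGroup N] (hna : ¬ IsMulCommutative N) (hC : Cr t n q p N) (h : Lie.IsoTits N) : 24 ≤ n := by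
  have h1 : TH.Ex.Dg.dgS .tits p ≤ n :=
    dg_sub (g := .tits) hna hC h (_root_.commutator (Lie.twistedF4 (ZMod 2) 1)) h H68.TitsMul.main
  have h2 : TH.Ex.Dg.dgS .tits p = if p = 2 then 24 else 24 := rfl
  rwa [h2, ite_self] at h1

variable [IsSimpleGroup N] (R : Rp t n q p T N G c d) (hna : ¬ IsMulCommutative N)
  (hA : Nat.card (MulAut N) ∣ 2 * Nat.card N) (h : OrdDiv.Real g N) (ho : Nat.card N = o)

include R hna hA h ho

theorem row_of {lo : ℕ} {lb : ℕ → ℕ} {sk : Kd → ℕ → ℕ → Bool} (hlo : lo ≤ n) (hlb : lb p ≤ n) (hsk : sk t n q = false)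
    (ht : ta ≠ 0 → ∃ c, Tri N ta tb c) (hT : a ≠ 0 → Tri N a b r)
    (hc : chk o (2 * o) lo lb sk ta tb (els g r a b) = true) : G :=
  R.sieve hna ho (ho ▸ Nat.le_of_dvd (Nat.mul_pos two_pos Nat.card_pos) hA) hlo hlb hsk ht (els_ok h hA hT) hc

theorem row_tri (ht : ta ≠ 0 → ∃ c, Tri N ta tb c) (hT : a ≠ 0 → Tri N a b r) (hc : ck g o ta tb r a b = true) : G :=
  row_of R hna hA h ho (five_le R.dim) (five_le R.dim) rfl ht hT hc

theorem row_plain (hc : ck g o 0 0 0 0 0 = true) : G :=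
  row_tri R hna hA h ho (fun k => absurd rfl k) (fun k => absurd rfl k) hc

omit R hna hA h ho in
/-- the row from the triples -/
theorem rowSpor_of (H : Tr) : RowX qSpor := by
  intro _ t n q p T N _ _ _ G c d hna hS R
  have hA : Nat.card (MulAut N) ∣ 2 * Nat.card N := by
    rw [← H934.OutB.card_out_mul _ hna]
    exact Nat.mul_dvd_mul_right (SM.Tx.out_dvd hS.2) _
  obtain ⟨x, hx, h⟩ := H977.T5Spor.exists_real hS.2
  have ho := table_spor _ x hx h
  simp only [spor, List.mem_cons, List.not_mem_nil, or_false] at hx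
  rcases hx with rfl | rfl | rfl | rfl | rfl | rfl | rfl | rfl | rfl | rfl | rfl | rfl | rfl | rfl | rfl | rfl | rfl |
    rfl | rfl | rfl | rfl | rfl | rfl | rfl | rfl | rfl | rfl
  · have h2 : 24 ≤ n := tits_le hna R.core h
    exact row_of R hna hA h ho (lb := fun _ => 24) (sk := fun _ _ _ => false) (ta := 0) (tb := 0) (r := 0) (a := 0) (b := 0)
      h2 h2 rfl (fun k => absurd rfl k) (fun k => absurd rfl k) (by decide +kernel)
  · exact row_tri R hna hA h ho (ta := 0) (tb := 0) (fun k => absurd rfl k) (fun _ => H.m11 N h) (by decide +kernel)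
  · exact row_tri R hna hA h ho (fun _ => ⟨_, H.m12 N h⟩) (fun _ => H.m12 N h) (by decide +kernel)
  · exact row_tri R hna hA h ho (ta := 0) (tb := 0) (fun k => absurd rfl k) (fun _ => H.m22 N h) (by decide +kernel)
  · exact row_plain R hna hA h ho (by decide +kernel)
  · exact row_plain R hna hA h ho (by decide +kernel)
  · exact row_plain R hna hA h ho (by decide +kernel)
  · have h1 : n ≠ 8 := by
      rintro rfl
      obtain ⟨K, _, _, P, _, -, h1, ⟨f⟩, -⟩ := R.core
      have h2 := H905.JD.J2_six h1 ⟨f.trans h.some⟩ (by simp)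
      simp at h2
    exact row_of R hna hA h ho (lb := fun _ => 5) (sk := fun _ n _ => Nat.beq n 8) (five_le R.dim) (five_le R.dim)
      (Bool.eq_false_iff.2 fun k => h1 (Nat.eq_of_beq_eq_true k)) (fun _ => ⟨_, H.j2 N h⟩) (fun _ => H.j2 N h) (by decide +kernel)
  · exact row_plain R hna hA h ho (by decide +kernel)
  · exact row_plain R hna hA h ho (by decide +kernel)
  · exact row_plain R hna hA h ho (by decide +kernel)
  · exact row_plain R hna hA h ho (by decide +kernel)
  · exact row_plain R hna hA h ho (by decide +kernel)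
  · exact row_tri R hna hA h ho (ta := 0) (tb := 0) (fun k => absurd rfl k) (fun _ => HSMcL.tri_mcl h) (by decide +kernel)
  · exact row_tri R hna hA h ho (fun _ => ⟨_, HSMcL.tri_hs h⟩) (fun _ => HSMcL.tri_hs h) (by decide +kernel)
  · exact row_tri R hna hA h ho (r := 0) (a := 0) (b := 0) (fun _ => Suz.tri_suz h) (fun k => absurd rfl k) (by decide +kernel)
  · have h1 := dg_le hna R.core h h.some S2049.result
    have h2 : (if p = 7 then 24 else 42) ≤ n := h1
    exact row_of R hna hA h ho (lo := 24) (lb := fun p => if p = 7 then 24 else 42) (sk := fun _ _ _ => false) (ta := 0)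
      (tb := 0) (r := 0) (a := 0) (b := 0) (le_trans (by split_ifs <;> omega) h2) h2 rfl (fun k => absurd rfl k)
      (fun k => absurd rfl k) (by decide +kernel)
  · exact row_plain R hna hA h ho (by decide +kernel)
  · exact row_plain R hna hA h ho (by decide +kernel)
  · exact row_plain R hna hA h ho (by decide +kernel)
  · exact row_tri R hna hA h ho (r := 0) (a := 0) (b := 0) (fun _ => Fi22.tri_fi22 h) (fun k => absurd rfl k)
      (by decide +kernel)
  · exact row_plain R hna hA h ho (by decide +kernel)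
  · exact row_plain R hna hA h ho (by decide +kernel)
  · exact row_plain R hna hA h ho (by decide +kernel)
  · exact row_plain R hna hA h ho (by decide +kernel)
  · exact row_plain R hna hA h ho (by decide +kernel)
  · exact row_plain R hna hA h ho (by decide +kernel)

omit R hna hA h ho in
/-- **the row** -/
theorem rowSpor : RowX qSpor :=
  rowSpor_of ⟨fun _ _ => MJ.tri_m11, fun _ _ => MJ.tri_m12, fun _ _ => MJ.tri_m22, fun _ _ => MJ.tri_j2⟩

omit R hna hA h ho in
/-- **[ResSpor]** -/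
theorem resSpor : On (pRes qSpor) := on_of boxRp0 boxSemi boxGreen rowSpor

end Cfsg.Agent.N2C.RSp
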