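import Cfsg.Agent.N2.Tool
import Cfsg.Agent.TH.Spor.InTool

/-!
# N2 (S3519), class S with a sporadic socle: local data from the numbers of elements (helper87)

`r` is a prime whose square does not divide `|G|`, `g` has order `r`, `nA` elements have order `r`, `nB` elements have
order divisible by `r`.

* `card_cent` : `nA |C(g)| = r nB`;
* `card_aut` : `|J| r nB = (r - 1) |G|`, `J` the automizer;
* `isConj_pow` : `g` is conjugate to `g ^ j`;
* `loc_of_mass` : the same from a table.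
-/

set_option autoImplicit false
set_option linter.unusedSectionVars false

namespace Cfsg.Agent.N2C.RSp

open Cfsg Cfsg.Agent.TAB Cfsg.Agent.TAB.Eng Subgroup
open Cfsg.Agent.N2 (cn card_fib)

section count

variable {G : Type*} [Group G]

/-- the number of elements of order `r` -/
noncomputable def nA (G : Type*) [Group G] (r : ℕ) : ℕ := Nat.card {x : G // orderOf x = r}

/-- the number of elements of order divisible by `r` -/
noncomputable def nB (G : Type*) [Group G] (r : ℕ) : ℕ := Nat.card {x : G // r ∣ orderOf x}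

variable [Finite G] {r : ℕ} {g : G}

theorem exists_e (hr : r.Prime) (h2 : ¬ r ^ 2 ∣ Nat.card G) (h1 : r ∣ Nat.card G) :
    ∃ e m, Nat.card G = r * m ∧ e ≡ 1 [MOD r] ∧ m ∣ e ∧ ¬ r ∣ m := by
  obtain ⟨m, hm⟩ := h1
  have h3 : ¬ r ∣ m := fun ⟨k, hk⟩ => h2 ⟨k, by rw [hm, hk]; ring⟩
  refine ⟨m ^ (r - 1), m, hm, ?_, dvd_pow_self _ (by have := hr.two_le; omega), h3⟩
  have h4 := Nat.ModEq.pow_totient ((Nat.Prime.coprime_iff_not_dvd hr).2 h3).symm
  rwa [Nat.totient_prime hr] at h4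

/-- elements of order dividing `r` which commute with `g` are powers of `g` -/
theorem mem_zpowers_of (hr : r.Prime) (h2 : ¬ r ^ 2 ∣ Nat.card G) (hg : orderOf g = r) {c : G} (hc : Commute c g)
    (h : c ^ r = 1) : c ∈ zpowers g := by
  have : Fact r.Prime := ⟨hr⟩
  have h1 : IsPGroup r (zpowers g) := IsPGroup.of_card (n := 1) (by rw [Nat.card_zpowers, hg, pow_one])
  have h3 : IsPGroup r (zpowers c) := by
    obtain ⟨k, -, hk⟩ := (Nat.dvd_prime_pow hr (m := 1) (i := orderOf c)).1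
      (by rw [pow_one]; exact orderOf_dvd_of_pow_eq_one h)
    exact IsPGroup.of_card (n := k) (by rw [Nat.card_zpowers, hk])
  have h4 : IsPGroup r ↥(zpowers g ⊔ zpowers c) := h1.to_sup_of_normal_left' h3 (zpowers_le.2 (by
    refine centralizer_le_normalizer _ ?_
    rintro _ ⟨k, rfl⟩
    exact (hc.symm.zpow_left k).eq))
  obtain ⟨k, hk⟩ := IsPGroup.iff_card.1 h4
  have h5 : k ≤ 1 := by
    by_contra h6
    exact h2 ((pow_dvd_pow r (by omega)).trans (hk ▸ card_subgroup_dvd_card _))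
  have h6 : zpowers g = zpowers g ⊔ zpowers c := eq_of_le_of_card_ge le_sup_left (by
    rw [hk, Nat.card_zpowers, hg]
    exact (Nat.pow_le_pow_right hr.pos h5).trans (pow_one r).le)
  exact h6.ge (mem_sup_right (mem_zpowers c))

theorem card_fibre (hr : r.Prime) (h2 : ¬ r ^ 2 ∣ Nat.card G) {e m : ℕ} (hm : Nat.card G = r * m) (he : e ≡ 1 [MOD r])
    (hd : m ∣ e) (hg : orderOf g = r) : cn g = r * Nat.card {x : G // x ^ e = g} := by
  have h1 : g ^ e = g := by
    conv_rhs => rw [← pow_one g]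
    exact pow_eq_pow_iff_modEq.2 (hg ▸ he)
  have h3 : ∀ c : G, (c ^ e) ^ r = 1 := fun c => by
    obtain ⟨k, rfl⟩ := hd
    rw [← pow_mul, show m * k * r = r * m * k by ring, ← hm, pow_mul, pow_card_eq_one', one_pow]
  have h4 : ∀ c : centralizer ({g} : Set G), Commute (c : G) g := fun c => mem_centralizer_singleton_iff.1 c.2
  have h5 := card_fib (fun c : centralizer ({g} : Set G) =>
    (⟨(c : G) ^ e, mem_zpowers_of hr h2 hg ((h4 c).pow_left e) (h3 c)⟩ : zpowers g)) (Nat.card {x : G // x ^ e = g})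
    fun b => by
      obtain ⟨_, k, rfl⟩ := b
      have h6 : ∀ i : ℤ, (g ^ i) ^ e = g ^ i := fun i => by
        rw [← zpow_natCast, ← zpow_mul, mul_comm, zpow_mul, zpow_natCast, h1]
      refine Nat.card_congr ⟨fun c => ⟨c.1 * g ^ (1 - k), ?_⟩, fun x => ⟨⟨x.1 * g ^ (k - 1), ?_⟩, Subtype.ext ?_⟩,
        fun c => Subtype.ext (Subtype.ext ?_), fun x => Subtype.ext ?_⟩
      · have h7 : (c.1 : G) ^ e = g ^ k := congrArg Subtype.val c.2
        rw [((h4 c.1).zpow_right _).mul_pow, h7, h6, ← zpow_add, add_sub_cancel, zpow_one]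
      · have h7 : Commute x.1 g := by
          have h8 := Commute.self_pow x.1 e
          rwa [x.2] at h8
        exact mem_centralizer_singleton_iff.2 (h7.mul_left (Commute.zpow_self g _))
      · have h7 : Commute x.1 g := by
          have h8 := Commute.self_pow x.1 e
          rwa [x.2] at h8
        change (x.1 * g ^ (k - 1)) ^ e = g ^ k
        rw [(h7.zpow_right _).mul_pow, x.2, h6, ← zpow_one_add, add_sub_cancel]
      · change (c.1 : G) * g ^ (1 - k) * g ^ (k - 1) = c.1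
        group
      · change x.1 * g ^ (k - 1) * g ^ (1 - k) = x.1
        group
  rwa [Nat.card_zpowers, hg] at h5

theorem exists_conj (hr : r.Prime) (h2 : ¬ r ^ 2 ∣ Nat.card G) (hg : orderOf g = r) {h : G} (hh : orderOf h = r) :
    ∃ k : ℕ, k.Coprime r ∧ IsConj (g ^ k) h := by
  obtain ⟨k, hk⟩ := SB.SporL.conj_of_sylow (g := g) (h := h) (hg ▸ hr) (hh.trans hg.symm) (by rwa [hg, ← sq])
  exact ⟨k, hg ▸ ON.coprime_of_conj (hg.trans hh.symm) hk, hk⟩

theorem cn_conj {a b : G} (h : IsConj a b) : cn a = cn b := by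
  have h1 := card_class a
  have h2 := card_class b
  have h3 : Nat.card {x : G // IsConj a x} = Nat.card {x : G // IsConj b x} :=
    Nat.card_congr (Equiv.subtypeEquivRight fun x => ⟨h.symm.trans, h.trans⟩)
  have h4 : 0 < Nat.card {x : G // IsConj b x} := @Nat.card_pos _ ⟨⟨b, IsConj.refl b⟩⟩ _
  rw [h3, ← h2] at h1
  exact Nat.eq_of_mul_eq_mul_left h4 h1

omit [Finite G] in
theorem cn_pow {k : ℕ} (hk : k.Coprime (orderOf g)) : cn (g ^ k) = cn g := by
  obtain ⟨l, hl⟩ := exists_pow_eq_self_of_coprime hk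
  refine congrArg (fun H : Subgroup G => Nat.card H) (Subgroup.ext fun x => ?_)
  rw [mem_centralizer_singleton_iff, mem_centralizer_singleton_iff]
  refine ⟨fun h => ?_, fun h => (Commute.pow_right h k).eq⟩
  rw [← hl]
  exact (Commute.pow_right h l).eq

theorem cn_eq (hr : r.Prime) (h2 : ¬ r ^ 2 ∣ Nat.card G) (hg : orderOf g = r) {h : G} (hh : orderOf h = r) :
    cn h = cn g := by
  obtain ⟨k, h1, h3⟩ := exists_conj hr h2 hg hh
  rw [← cn_conj h3, cn_pow (hg ▸ h1)]

/-- **the order of the centraliser** -/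
theorem card_cent (hr : r.Prime) (h2 : ¬ r ^ 2 ∣ Nat.card G) (hg : orderOf g = r) : nA G r * cn g = r * nB G r := by
  obtain ⟨e, m, hm, he, hd, h3⟩ := exists_e hr h2 (hg ▸ orderOf_dvd_natCard g)
  have h4 : ∀ x : G, r ∣ orderOf x → orderOf (x ^ e) = r := fun x hx => by
    have : Fact r.Prime := ⟨hr⟩
    refine orderOf_eq_prime ?_ fun h => ?_
    · obtain ⟨k, rfl⟩ := hd
      rw [← pow_mul, show m * k * r = r * m * k by ring, ← hm, pow_mul, pow_card_eq_one', one_pow]
    · have h5 := (Nat.modEq_zero_iff_dvd.2 (hx.trans (orderOf_dvd_of_pow_eq_one h))).symm.trans he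
      exact hr.one_lt.ne' (Nat.dvd_one.1 (Nat.modEq_zero_iff_dvd.1 h5.symm))
  have h5 := card_fib (fun x : {x : G // r ∣ orderOf x} => (⟨x.1 ^ e, h4 x.1 x.2⟩ : {x : G // orderOf x = r}))
    (Nat.card {x : G // x ^ e = g}) fun b => by
      have h6 := card_fibre hr h2 hm he hd b.2
      rw [cn_eq hr h2 hg b.2, card_fibre hr h2 hm he hd hg] at h6
      rw [Nat.eq_of_mul_eq_mul_left hr.pos h6]
      refine Nat.card_congr ⟨fun x => ⟨x.1.1, congrArg Subtype.val x.2⟩, fun x => ⟨⟨x.1, ?_⟩, Subtype.ext x.2⟩,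
        fun _ => rfl, fun _ => rfl⟩
      have h7 := orderOf_pow_dvd (x := x.1) e
      rwa [x.2, b.2] at h7
  rw [nB, h5, card_fibre hr h2 hm he hd hg, nA]
  ring

theorem pow_val_mul (hg : g ^ r = 1) (i j : ZMod r) [NeZero r] : g ^ (i * j).val = (g ^ i.val) ^ j.val := by
  rw [← pow_mul, ZMod.val_mul, ← pow_eq_pow_mod _ hg]

/-- the automizer -/
def aut (g : G) (r : ℕ) [NeZero r] (hg : g ^ r = 1) : Subgroup (ZMod r)ˣ where
  carrier := {j | IsConj g (g ^ (j : ZMod r).val)}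
  one_mem' := by
    change IsConj g (g ^ (1 : ZMod r).val)
    rw [ZMod.val_one_eq_one_mod, ← pow_eq_pow_mod _ hg, pow_one]
  mul_mem' := fun {a b} ha hb => by
    change IsConj g (g ^ ((a : ZMod r) * b).val)
    rw [pow_val_mul hg]
    exact IsConj.trans hb (IsConj.pow _ ha)
  inv_mem' := fun {a} ha => by
    have h1 := IsConj.pow ((a⁻¹ : (ZMod r)ˣ) : ZMod r).val ha
    rw [← pow_val_mul hg, Units.mul_inv, ZMod.val_one_eq_one_mod, ← pow_eq_pow_mod _ hg, pow_one] at h1
    exact h1.symm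

/-- **the order of the automizer** -/
theorem card_aut (hr : r.Prime) [NeZero r] (h2 : ¬ r ^ 2 ∣ Nat.card G) (hg : orderOf g = r) (h0 : g ^ r = 1) :
    Nat.card (aut g r h0) * (r * nB G r) = (r - 1) * Nat.card G := by
  have : Fact r.Prime := ⟨hr⟩
  have h1 : ∀ i : (ZMod r)ˣ, orderOf (g ^ (i : ZMod r).val) = r := fun i =>
    ((hg ▸ (ZMod.val_coe_unit_coprime i).symm : (orderOf g).Coprime _).orderOf_pow).trans hg
  have h3 := card_fib (fun p : (ZMod r)ˣ × G =>
    (⟨p.2 * g ^ (p.1 : ZMod r).val * p.2⁻¹, (orderOf_conj' _ _).trans (h1 _)⟩ : {x : G // orderOf x = r}))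
    (Nat.card (aut g r h0) * cn g) fun b => by
      obtain ⟨k, k1, k2⟩ := exists_conj hr h2 hg b.2
      obtain ⟨u, hu⟩ : ∃ u : (ZMod r)ˣ, IsConj (g ^ (u : ZMod r).val) b.1 :=
        ⟨ZMod.unitOfCoprime k k1, by rwa [ZMod.coe_unitOfCoprime, ZMod.val_natCast, ← pow_eq_pow_mod _ h0]⟩
      have h4 : ∀ i : (ZMod r)ˣ, IsConj (g ^ (i : ZMod r).val) b.1 ↔ i * u⁻¹ ∈ aut g r h0 := fun i => by
        change _ ↔ IsConj g (g ^ ((i : ZMod r) * (u⁻¹ : (ZMod r)ˣ)).val)
        constructor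
        · intro h
          have h5 := IsConj.pow ((u⁻¹ : (ZMod r)ˣ) : ZMod r).val (hu.trans h.symm)
          rwa [← pow_val_mul h0, ← pow_val_mul h0, Units.mul_inv, ZMod.val_one_eq_one_mod, ← pow_eq_pow_mod _ h0,
            pow_one] at h5
        · intro h
          have h5 := IsConj.pow (u : ZMod r).val h
          rw [← pow_val_mul h0, Units.inv_mul_cancel_right] at h5
          exact h5.symm.trans hu
      refine card_fib (fun p => (⟨p.1.1 * u⁻¹, (h4 _).1
        (isConj_iff.2 ⟨p.1.2, congrArg Subtype.val p.2⟩)⟩ : aut g r h0)) (cn g) fun j => ?_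
      obtain ⟨c, hc⟩ := isConj_iff.1 ((h4 (j * u)).2 (by rw [mul_inv_cancel_right]; exact j.2))
      rw [← cn_eq hr h2 hg (h1 (j * u))]
      refine Nat.card_congr ⟨fun p => ⟨c⁻¹ * p.1.1.2, mem_centralizer_singleton_iff.2 ?_⟩,
        fun x => ⟨⟨(j * u, c * x.1), Subtype.ext ?_⟩, Subtype.ext (mul_inv_cancel_right _ _)⟩, fun p => ?_,
        fun x => Subtype.ext (inv_mul_cancel_left _ _)⟩
      · have h5 : p.1.1.1 = j * u := eq_mul_of_mul_inv_eq (congrArg Subtype.val p.2)
        have h6 : p.1.1.2 * g ^ (p.1.1.1 : ZMod r).val * p.1.1.2⁻¹ = b.1 := congrArg Subtype.val p.1.2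
        rw [h5] at h6
        calc _ = c⁻¹ * (p.1.1.2 * g ^ ((j * u : (ZMod r)ˣ) : ZMod r).val * p.1.1.2⁻¹) * p.1.1.2 := by group
          _ = _ := by rw [h6.trans hc.symm]; group
      · change c * x.1 * _ * (c * x.1)⁻¹ = b.1
        refine Eq.trans ?_ hc
        rw [mul_assoc c, mem_centralizer_singleton_iff.1 x.2]
        group
      · exact Subtype.ext (Subtype.ext (Prod.ext (eq_mul_of_mul_inv_eq (congrArg Subtype.val p.2)).symm
          (mul_inv_cancel_left _ _)))
  rw [Nat.card_prod, Nat.card_eq_fintype_card, ZMod.card_units] at h3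
  rw [h3, ← card_cent hr h2 hg, nA]
  ring

/-- **`g` is conjugate to `g ^ j`** -/
theorem isConj_pow (hr : r.Prime) (h2 : ¬ r ^ 2 ∣ Nat.card G) (hg : orderOf g = r) {m j : ℕ}
    (hm : m * (r * nB G r) = (r - 1) * Nat.card G) (hj : j ^ m % r = 1) : IsConj g (g ^ j) := by
  classical
  have : Fact r.Prime := ⟨hr⟩
  have h0 : g ^ r = 1 := hg ▸ pow_orderOf_eq_one g
  have h1 := card_aut hr h2 hg h0
  have h3 : 0 < r * nB G r := Nat.mul_pos hr.pos (@Nat.card_pos _ ⟨⟨g, hg ▸ dvd_rfl⟩⟩ _)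
  have h4 : Nat.card (aut g r h0) = m := Nat.eq_of_mul_eq_mul_right h3 (h1.trans hm.symm)
  have h5 : 0 < m := h4 ▸ Nat.card_pos
  have h6 : (j : ZMod r) ^ m = 1 := by
    rw [← Nat.cast_pow, ← ZMod.natCast_mod, hj, Nat.cast_one]
  obtain ⟨u, hu⟩ := IsUnit.of_pow_eq_one h6 h5.ne'
  have h7 : (Finset.univ.filter fun a => a ∈ aut g r h0) = Finset.univ.filter fun a : (ZMod r)ˣ => a ^ m = 1 := by
    refine Finset.eq_of_subset_of_card_le (fun a ha => ?_) ((IsCyclic.card_pow_eq_one_le h5).trans ?_)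
    · rw [Finset.mem_filter] at ha ⊢
      exact ⟨ha.1, congrArg Subtype.val (h4 ▸ pow_card_eq_one' (x := (⟨a, ha.2⟩ : aut g r h0)))⟩
    · rw [← h4, Nat.card_eq_fintype_card, Fintype.card_subtype]
  have h8 : u ∈ Finset.univ.filter fun a => a ∈ aut g r h0 := by
    rw [h7, Finset.mem_filter]
    exact ⟨Finset.mem_univ _, Units.ext (by rw [Units.val_pow_eq_pow_val, hu, h6, Units.val_one])⟩
  have h9 : IsConj g (g ^ (u : ZMod r).val) := (Finset.mem_filter.1 h8).2
  rwa [hu, ZMod.val_natCast, ← pow_eq_pow_mod _ h0] at h9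

end count

section table

variable {G : Type*} [Group G] [Finite G] {D : Dat} {T : TD G D}

/-- the number of elements whose order satisfies `P` -/
def cntP (D : Dat) (P : ℕ → Bool) : ℕ := ((List.range D.n).map fun t => if P (D.ord t) then D.cnt t else 0).sum

theorem card_P (hm : T.Mass) (P : ℕ → Bool) : Nat.card {x : G // P (orderOf x) = true} = cntP D P := by
  classical
  have := Fintype.ofFinite G
  rw [cntP, sum_range_eq, Nat.card_eq_fintype_card, Fintype.card_subtype,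
    Finset.card_eq_sum_card_fiberwise (f := T.ty) (t := Finset.range D.n) fun x _ => Finset.mem_coe.2 (Finset.mem_range.2 (T.lt x))]
  refine Finset.sum_congr rfl fun t ht => ?_
  split_ifs with h
  · rw [← hm.2 t (Finset.mem_range.1 ht), Nat.card_eq_fintype_card, Fintype.card_subtype, Finset.filter_filter]
    exact congrArg _ (Finset.filter_congr fun x _ => ⟨fun k => k.2, fun k => ⟨by rw [T.ord, k, h], k⟩⟩)
  · rw [Finset.card_eq_zero, Finset.filter_filter, Finset.filter_eq_empty_iff]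
    exact fun x _ k => h (by rw [← k.2, ← T.ord, k.1])

/-- the check: `r ∥ N`, centraliser of order `c`, automizer of order `m`, `j ^ m = 1` -/
def okLoc (D : Dat) (r c m j : ℕ) : Bool :=
  D.N % r == 0 && D.N % r ^ 2 != 0 && cntP D (· == r) * c == r * cntP D (· % r == 0) &&
    m * (r * cntP D (· % r == 0)) == (r - 1) * D.N && j ^ m % r == 1

/-- **local data from the table** -/
theorem loc_of_mass (hm : T.Mass) {r c m j : ℕ} (hr : r.Prime) (h : okLoc D r c m j = true) :
    r ∣ Nat.card G ∧ ¬ r ^ 2 ∣ Nat.card G ∧ ∀ g : G, orderOf g = r → cn g = c ∧ IsConj g (g ^ j) := by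
  simp only [okLoc, Bool.and_eq_true, beq_iff_eq, bne_iff_ne] at h
  obtain ⟨⟨⟨⟨h1, h2⟩, h3⟩, h4⟩, h5⟩ := h
  have h6 : ¬ r ^ 2 ∣ Nat.card G := fun k => h2 (Nat.mod_eq_zero_of_dvd (hm.1 ▸ k))
  have h7 : nA G r = cntP D (· == r) :=
    (Nat.card_congr (Equiv.subtypeEquivRight fun x => beq_iff_eq.symm)).trans (card_P hm (· == r))
  have h8 : nB G r = cntP D (· % r == 0) :=
    (Nat.card_congr (Equiv.subtypeEquivRight fun x => Nat.dvd_iff_mod_eq_zero.trans beq_iff_eq.symm)).trans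
      (card_P hm (· % r == 0))
  refine ⟨hm.1 ▸ Nat.dvd_of_mod_eq_zero h1, h6, fun g hg => ⟨?_, isConj_pow hr h6 hg (by rw [h8, hm.1, h4]) h5⟩⟩
  have h9 := card_cent hr h6 hg
  have h10 : 0 < nA G r := @Nat.card_pos _ ⟨⟨g, hg⟩⟩ _
  rw [h8, ← h3, ← h7] at h9
  exact Nat.eq_of_mul_eq_mul_left h10 h9

end table

end Cfsg.Agent.N2C.RSp
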