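import Cfsg.Agent.N2.Cl.RSp.Loc
import Cfsg.Agent.TH.Spor.InA
import Cfsg.Agent.TH.Spor.InB
import Cfsg.Agent.TH.Spor.InC
import Cfsg.Agent.TH.Spor.InD
import Cfsg.Agent.TH.Spor.InE
import Cfsg.Agent.TH.Spor.J1
import Cfsg.Agent.TH.Spor.J3Tab
import Cfsg.Agent.TAB.F23C.Main
import Cfsg.Agent.TAB.F24C.DZ
import Cfsg.Agent.OrdDiv.Main

/-!
# N2 (S3519), class S with a sporadic socle: the local data of all primes `r ≥ 5` which divide the order once (helper87)
-/

set_option autoImplicit false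

namespace Cfsg.Agent.N2C.RSp

open Cfsg Cfsg.Agent.TAB Cfsg.Agent.TAB.Eng Cfsg.Agent.TH.Spor Cfsg.Agent.OrdDiv

/-- `(r, c, m, j)` : the prime, the order of the centraliser, the order of the automizer, a generator of the automizer -/
def tL : Grp → List (ℕ × ℕ × ℕ × ℕ)
  | .m11 => [(5, 5, 4, 2), (11, 11, 5, 3)]
  | .m12 => [(5, 10, 4, 2), (11, 11, 5, 3)]
  | .m22 => [(5, 5, 4, 2), (7, 7, 3, 2), (11, 11, 5, 3)]
  | .m23 => [(5, 15, 4, 2), (7, 14, 3, 2), (11, 11, 5, 3), (23, 23, 11, 2)]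
  | .m24 => [(5, 60, 4, 2), (7, 42, 3, 2), (11, 11, 10, 2), (23, 23, 11, 2)]
  | .j1 => [(5, 30, 2, 4), (7, 7, 6, 3), (11, 11, 10, 2), (19, 19, 6, 8)]
  | .j2 => [(7, 7, 6, 3)]
  | .j3 => [(5, 30, 2, 4), (17, 17, 8, 2), (19, 19, 9, 4)]
  | .j4 => [(5, 6720, 4, 2), (7, 840, 3, 2), (23, 23, 22, 5), (29, 29, 28, 2), (31, 31, 10, 15), (37, 37, 12, 8), (43, 43, 14, 2)]
  | .co1 => [(11, 66, 10, 2), (13, 156, 12, 2), (23, 23, 11, 2)]
  | .co2 => [(7, 56, 6, 3), (11, 11, 10, 2), (23, 23, 11, 2)]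
  | .co3 => [(7, 42, 6, 3), (11, 22, 5, 3), (23, 23, 11, 2)]
  | .mcl => [(7, 14, 3, 2), (11, 11, 5, 3)]
  | .hs => [(7, 7, 6, 3), (11, 11, 5, 3)]
  | .suz => [(7, 84, 6, 3), (11, 11, 10, 2), (13, 13, 6, 4)]
  | .he => [(17, 17, 8, 2)]
  | .ru => [(7, 28, 6, 3), (13, 52, 12, 2), (29, 29, 14, 4)]
  | .on => [(5, 180, 4, 2), (11, 11, 10, 2), (19, 19, 6, 8), (31, 31, 15, 7)]
  | .ly => [(7, 168, 6, 3), (11, 66, 5, 3), (31, 31, 6, 6), (37, 37, 18, 3), (67, 67, 22, 3)]
  | .fi22 => [(7, 42, 6, 3), (11, 22, 5, 3), (13, 13, 6, 4)]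
  | .fi23 => [(7, 840, 6, 3), (11, 44, 10, 2), (13, 78, 6, 4), (17, 17, 16, 3), (23, 23, 11, 2)]
  | .fi24 => [(11, 132, 10, 2), (13, 234, 12, 2), (17, 17, 16, 3), (23, 23, 11, 2), (29, 29, 14, 4)]
  | .hn => [(7, 420, 6, 3), (11, 22, 10, 2), (19, 19, 9, 4)]
  | .th => [(13, 39, 12, 2), (19, 19, 18, 2), (31, 31, 15, 7)]
  | .b => [(11, 1320, 10, 2), (13, 312, 12, 2), (17, 68, 16, 3), (19, 38, 18, 2), (23, 46, 11, 2), (31, 31, 15, 7), (47, 47, 23, 2)]
  | .m => [(17, 2856, 16, 3), (19, 1140, 18, 2), (23, 552, 11, 2), (29, 87, 28, 2), (31, 186, 15, 7), (41, 41, 40, 6),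
      (47, 94, 23, 2), (59, 59, 29, 3), (71, 71, 35, 2)]
  | .tits => [(13, 13, 6, 4)]
  | _ => []

example := @tL.eq_def

theorem locs_of_in {N : Type} [Group N] [Finite N] {D : Dat} {R : Use.Rows} (h : In N D R) {l : List (ℕ × ℕ × ℕ × ℕ)}
    (hl : okL D l = true) : Locs N l := h.elim fun _ k => Locs.of_mass k.1 hl

/-- **the local data** -/
theorem locs {N : Type} [Group N] [Finite N] {g : Grp} (h : OrdDiv.Real g N) : Locs N (tL g) := by
  cases g with
  | m11 => exact locs_of_in (in_m11 h) (by decide +kernel)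
  | m12 => exact locs_of_in (in_m12 h) (by decide +kernel)
  | m22 => exact locs_of_in (in_m22 h) (by decide +kernel)
  | m23 => exact locs_of_in (in_m23 h) (by decide +kernel)
  | m24 => exact locs_of_in (in_m24 h) (by decide +kernel)
  | j1 => exact locs_of_in (in_j1 h) (by decide +kernel)
  | j2 => exact locs_of_in (in_j2 h) (by decide +kernel)
  | j3 => exact locs_of_in (in_j3 h) (by decide +kernel)
  | j4 => exact locs_of_in (in_j4 h) (by decide +kernel)
  | co1 => exact locs_of_in (in_co1 h) (by decide +kernel)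
  | co2 => exact locs_of_in (in_co2 h) (by decide +kernel)
  | co3 => exact locs_of_in (in_co3 h) (by decide +kernel)
  | mcl => exact locs_of_in (in_mcl h) (by decide +kernel)
  | hs => exact locs_of_in (in_hs h) (by decide +kernel)
  | suz => exact locs_of_in (in_suz h) (by decide +kernel)
  | he => exact locs_of_in (in_he h) (by decide +kernel)
  | ru => exact locs_of_in (in_ru h) (by decide +kernel)
  | on => exact locs_of_in (in_on h) (by decide +kernel)
  | ly => exact locs_of_in (in_ly h) (by decide +kernel)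
  | fi22 => exact locs_of_in (in_fi22 h) (by decide +kernel)
  | fi23 => exact locs_of_in (in_fi23 F23C.inF23 h) (by decide +kernel)
  | fi24 => exact locs_of_in (in_fi24 F24C.inF24 h) (by decide +kernel)
  | hn => exact locs_of_in (in_hn h) (by decide +kernel)
  | th => exact locs_of_in (in_th h) (by decide +kernel)
  | b => exact locs_of_in (in_b h) (by decide +kernel)
  | m => exact locs_of_in (in_m h) (by decide +kernel)
  | tits => exact locs_of_in (in_tits h) (by decide +kernel)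
  | _ => exact fun _ hx => absurd hx List.not_mem_nil

end Cfsg.Agent.N2C.RSp
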