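import Cfsg.Agent.N2.Cl.RSp.Cnt
import Cfsg.Agent.N2.Tri.Defs

/-!
# N2 (S3519), class S with a sporadic socle: the predicate `Loc` (helper87)

`Loc N r c m j` : `r` is a prime which divides `|N|` exactly once; every element of order `r` has a centraliser of order
`c`, is conjugate to its `j`-th power, and the normaliser of the group it generates has at least `c m` elements.
-/

set_option autoImplicit false
set_option linter.unusedSectionVars false

namespace Cfsg.Agent.N2C.RSp

open Cfsg Cfsg.Agent.TAB Cfsg.Agent.TAB.Eng Subgroup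
open Cfsg.Agent.N2 (cn)
open Cfsg.Agent.N2.Tg

/-- local data of a prime -/
structure Loc (N : Type*) [Group N] (r c m j : ℕ) : Prop where
  prime : r.Prime
  dvd : r ∣ Nat.card N
  sq : ¬ r ^ 2 ∣ Nat.card N
  cent : ∀ g : N, orderOf g = r → Nat.card (centralizer ({g} : Set N)) = c
  conj : ∀ g : N, orderOf g = r → IsConj g (g ^ j)
  norm : ∀ g : N, orderOf g = r → c * m ≤ Nat.card (normalizer (zpowers g : Set N))

section

variable {N : Type*} [Group N] [Finite N] {r c m j : ℕ}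

theorem Loc.exists (h : Loc N r c m j) : ∃ g : N, orderOf g = r :=
  have : Fact r.Prime := ⟨h.prime⟩
  exists_prime_orderOf_dvd_card' r h.dvd

theorem Loc.cj (h : Loc N r c m j) : Cj N r j := h.exists.imp fun g hg => ⟨hg, h.conj g hg⟩

theorem Loc.nz (h : Loc N r c m j) : Nz N r (c * m) := h.exists.imp fun g hg => ⟨hg, h.norm g hg⟩

/-- every element of order `r` is self-centralising -/
theorem Loc.le (h : Loc N r r m j) (g : N) (hg : orderOf g = r) : centralizer {g} ≤ zpowers g :=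
  (eq_of_le_of_card_ge (zpowers_le.2 (mem_centralizer_singleton_iff.2 rfl))
    (by rw [h.cent g hg, Nat.card_zpowers, hg])).ge

theorem Loc.sc (h : Loc N r r m j) : SC N r := h.exists.imp fun g hg => ⟨hg, h.le g hg⟩

theorem Loc.triJ (h : Loc N r c m j) {a b : ℕ} (ht : Tri N a b r) : TriJ N a b r j := by
  obtain ⟨x, y, h1, h2, h3, h4⟩ := ht
  exact ⟨x, y, h1, h2, h3, h4, h.conj _ h3⟩

/-- the normaliser -/
theorem card_norm {g : N} [NeZero r] (hg : orderOf g = r) (h0 : g ^ r = 1) :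
    cn g * Nat.card (aut g r h0) ≤ Nat.card (normalizer (zpowers g : Set N)) := by
  have h1 : ∀ a : aut g r h0, ∃ s : N, s * g * s⁻¹ = g ^ ((a : (ZMod r)ˣ) : ZMod r).val := fun a => isConj_iff.1 a.2
  choose s hs using h1
  have h2 : ∀ (x : centralizer ({g} : Set N)) (a : aut g r h0),
      s a * x * g * (s a * x)⁻¹ = g ^ ((a : (ZMod r)ˣ) : ZMod r).val := fun x a => by
    rw [← hs, mul_assoc (s a), mem_centralizer_singleton_iff.1 x.2]
    group
  rw [cn, ← Nat.card_prod]
  refine Nat.card_le_card_of_injective (fun x : centralizer ({g} : Set N) × aut g r h0 =>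
    (⟨s x.2 * x.1, mem_normalizer_fintype ?_⟩ : normalizer (zpowers g : Set N))) ?_
  · rintro _ ⟨k, rfl⟩
    refine ⟨(((x.2 : (ZMod r)ˣ) : ZMod r).val : ℤ) * k, ?_⟩
    change g ^ _ = _ * g ^ k * _
    rw [zpow_mul, zpow_natCast, ← h2 x.1 x.2, conj_zpow]
  · rintro ⟨x, a⟩ ⟨y, b⟩ hab
    have h3 : s a * x = s b * y := congrArg Subtype.val hab
    have h4 := h2 x a
    rw [h3, h2 y b, pow_eq_pow_iff_modEq, hg, Nat.ModEq, Nat.mod_eq_of_lt (ZMod.val_lt _),
      Nat.mod_eq_of_lt (ZMod.val_lt _)] at h4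
    have h5 : a = b := Subtype.ext (Units.ext (ZMod.val_injective r h4.symm))
    subst h5
    rw [show x = y from Subtype.ext (mul_left_cancel h3)]

variable {D : Dat} {T : TD N D}

/-- **`Loc` from the table** -/
theorem Loc.of_mass (hm : T.Mass) (hr : r.Prime) (h : okLoc D r c m j = true) : Loc N r c m j := by
  obtain ⟨h1, h2, h3⟩ := loc_of_mass hm hr h
  refine ⟨hr, h1, h2, fun g hg => (h3 g hg).1, fun g hg => (h3 g hg).2, fun g hg => ?_⟩
  have : NeZero r := ⟨hr.ne_zero⟩
  have h0 : g ^ r = 1 := hg ▸ pow_orderOf_eq_one g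
  have h4 := card_aut hr h2 hg h0
  simp only [okLoc, Bool.and_eq_true, beq_iff_eq] at h
  have h8 : nB N r = cntP D (· % r == 0) :=
    (Nat.card_congr (Equiv.subtypeEquivRight fun x => Nat.dvd_iff_mod_eq_zero.trans beq_iff_eq.symm)).trans
      (card_P hm (· % r == 0))
  have h5 := h.1.2
  rw [← h8, ← hm.1, ← h4] at h5
  have h6 : 0 < r * nB N r := Nat.pos_of_ne_zero fun e => by
    rw [e, mul_zero] at h4
    exact (Nat.mul_pos (by have := hr.two_le; omega) Nat.card_pos).ne h4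
  rw [← (h3 g hg).1, Nat.eq_of_mul_eq_mul_right h6 h5]
  exact card_norm hg h0

/-- the check for a list -/
def okL (D : Dat) (l : List (ℕ × ℕ × ℕ × ℕ)) : Bool :=
  l.all fun x => decide (x.1 ∈ [5, 7, 11, 13, 17, 19, 23, 29, 31, 37, 41, 43, 47, 59, 67, 71]) &&
    okLoc D x.1 x.2.1 x.2.2.1 x.2.2.2

/-- the data of a list -/
def Locs (N : Type*) [Group N] (l : List (ℕ × ℕ × ℕ × ℕ)) : Prop := ∀ x ∈ l, Loc N x.1 x.2.1 x.2.2.1 x.2.2.2

theorem Locs.of_mass (hm : T.Mass) {l : List (ℕ × ℕ × ℕ × ℕ)} (h : okL D l = true) : Locs N l := fun x hx => by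
  have h1 := List.all_eq_true.1 h x hx
  rw [Bool.and_eq_true, decide_eq_true_eq] at h1
  refine Loc.of_mass hm ?_ h1.2
  have h2 : ∀ p ∈ [5, 7, 11, 13, 17, 19, 23, 29, 31, 37, 41, 43, 47, 59, 67, 71], Nat.Prime p := by
    simp only [List.forall_mem_cons]
    norm_num
  exact h2 _ h1.1

end

end Cfsg.Agent.N2C.RSp
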